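import Mathlib

/-!
# The theorem of Eakin and Nagata, after Formanek
-/

set_option autoImplicit false
set_option linter.style.haveILetI false

universe u v

namespace Groth.Agent.EakinNag

variable {B : Type u} [CommRing B]

theorem isNoetherian_of_forall_smul {M : Type v} [AddCommGroup M] [Module B M] [Module.Finite B M]
    (h : ∀ r : B, (∀ x : M, r • x = 0) ∨
      IsNoetherian B (M ⧸ LinearMap.range (LinearMap.lsmul B M r))) : IsNoetherian B M := by
  classical
  let S : Set (Submodule B M) := {N | ∀ r : B, (∀ x, r • x ∈ N) → ∀ x : M, r • x = 0}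
  obtain ⟨k, g, hg⟩ := Module.Finite.exists_fin' B M
  have hgen : ∀ (r : B) (N : Submodule B M), (∀ j, r • g (Pi.single j 1) ∈ N) → ∀ x, r • x ∈ N := by
    intro r N hN x
    obtain ⟨y, rfl⟩ := hg x
    rw [pi_eq_sum_univ' y, map_sum, Finset.smul_sum]
    exact Submodule.sum_mem _ fun j _ => by rw [map_smul, smul_comm]; exact N.smul_mem _ (hN j)
  obtain ⟨N, hN⟩ : ∃ N, Maximal (· ∈ S) N := by
    refine zorn_le₀ S fun c hc hchain => ?_
    rcases c.eq_empty_or_nonempty with rfl | hne
    · exact ⟨⊥, fun r hr x => by simpa using hr x, by simp⟩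
    refine ⟨sSup c, fun r hr x => ?_, fun z hz => le_sSup hz⟩
    have hmem : ∀ j, ∃ N ∈ c, r • g (Pi.single j 1) ∈ N := fun j =>
      (Submodule.mem_sSup_of_directed hne hchain.directedOn).mp (hr _)
    choose Nj hNj hj using hmem
    obtain ⟨N₀, hN₀, hle⟩ : ∃ N₀ ∈ c, ∀ j, Nj j ≤ N₀ := by
      haveI : Nonempty c := hne.to_subtype
      obtain ⟨z, hz⟩ := (hchain.directedOn.directed_val).finset_le
        (Finset.univ.image fun j => (⟨Nj j, hNj j⟩ : c))
      exact ⟨z.1, z.2, fun j => hz _ (Finset.mem_image_of_mem _ (Finset.mem_univ j))⟩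
    exact hc hN₀ r (hgen r N₀ fun j => hle j (hj j)) x
  have hbig : ∀ N', N < N' → N'.FG := by
    intro N' hlt
    obtain ⟨r, hr, x₀, hx₀⟩ : ∃ r : B, (∀ x, r • x ∈ N') ∧ ∃ x : M, r • x ≠ 0 := by
      by_contra hne
      push_neg at hne
      exact not_le_of_gt hlt (hN.2 (fun r hr x => hne r hr x) hlt.le)
    haveI := (h r).resolve_left fun h0 => hx₀ (h0 x₀)
    refine Submodule.fg_of_fg_map_of_fg_inf_ker (Submodule.mkQ (LinearMap.range (LinearMap.lsmul B M r)))
      (IsNoetherian.noetherian _) ?_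
    rw [Submodule.ker_mkQ, inf_eq_right.mpr (by rintro _ ⟨x, rfl⟩; exact hr x), LinearMap.range_eq_map]
    exact Module.Finite.fg_top.map _
  have hq : IsNoetherian B (M ⧸ N) := ⟨fun W => by
    rcases (bot_le : ⊥ ≤ W).eq_or_lt with rfl | hlt
    · exact Submodule.fg_bot
    have hN' : N < W.comap N.mkQ := by
      refine lt_of_le_of_ne (fun x hx => ?_) fun he => hlt.ne ?_
      · rw [Submodule.mem_comap, Submodule.mkQ_apply, (Submodule.Quotient.mk_eq_zero N).mpr hx]
        exact W.zero_mem
      · rw [← Submodule.map_comap_eq_of_surjective (Submodule.mkQ_surjective N) W, ← he, Submodule.mkQ_map_self]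
    rw [← Submodule.map_comap_eq_of_surjective (Submodule.mkQ_surjective N) W]
    exact (hbig _ hN').map _⟩
  -- the ring modulo the annihilator is noetherian
  let φ : B →ₗ[B] (Fin k → M ⧸ N) :=
    LinearMap.pi fun j => LinearMap.toSpanSingleton B _ (N.mkQ (g (Pi.single j 1)))
  let ψ : B →ₗ[B] (Fin k → M) := LinearMap.pi fun j => LinearMap.toSpanSingleton B M (g (Pi.single j 1))
  have hk : LinearMap.ker φ ≤ LinearMap.ker ψ := by
    intro r hr
    refine LinearMap.mem_ker.mpr (funext fun j => ?_)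
    refine hN.1 r (hgen r N fun i => ?_) _
    have := congrFun (LinearMap.mem_ker.mp hr) i
    rw [← Submodule.Quotient.mk_eq_zero N, Submodule.Quotient.mk_smul]
    simpa [φ] using this
  haveI : IsNoetherian B (B ⧸ LinearMap.ker φ) :=
    isNoetherian_of_linearEquiv φ.quotKerEquivRange.symm
  let e : (Fin k → B ⧸ LinearMap.ker φ) →ₗ[B] M :=
    ∑ j, ((LinearMap.ker φ).liftQ (LinearMap.toSpanSingleton B M (g (Pi.single j 1)))
      (hk.trans fun r hr => congrFun (LinearMap.mem_ker.mp hr) j)) ∘ₗ LinearMap.proj j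
  refine isNoetherian_of_surjective e (LinearMap.range_eq_top.mpr fun x => ?_)
  obtain ⟨y, rfl⟩ := hg x
  refine ⟨fun j => Submodule.Quotient.mk (y j), ?_⟩
  conv_rhs => rw [pi_eq_sum_univ' y, map_sum]
  simp [e]
  exact Finset.sum_congr rfl fun j _ => rfl

/-- Eakin-Nagata. -/
theorem isNoetherianRing_of_finite (A : Type v) [CommRing A] [Algebra B A] [Module.Finite B A]
    [IsNoetherianRing A] (hinj : Function.Injective (algebraMap B A)) : IsNoetherianRing B := by
  suffices h : IsNoetherian B A from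
    isNoetherianRing_iff.mpr (isNoetherian_of_injective (Algebra.linearMap B A) hinj)
  by_contra hA
  have hne : {I : Ideal A | ¬ IsNoetherian B (A ⧸ I)}.Nonempty := ⟨⊥, fun h => hA
    (isNoetherian_of_linearEquiv ((AlgEquiv.quotientBot B A).toLinearEquiv))⟩
  obtain ⟨I, hI, hmax⟩ := set_has_maximal_iff_noetherian.mpr inferInstance _ hne
  refine hI (isNoetherian_of_forall_smul fun r => ?_)
  by_cases hr : algebraMap B A r ∈ I
  · left
    intro x
    obtain ⟨a, rfl⟩ := Ideal.Quotient.mk_surjective x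
    rw [Algebra.smul_def, ← Ideal.Quotient.mk_algebraMap, ← map_mul, Ideal.Quotient.eq_zero_iff_mem]
    exact Ideal.mul_mem_right _ I hr
  · right
    let J := I ⊔ Ideal.span {algebraMap B A r}
    have hlt : I < J := lt_of_le_of_ne le_sup_left fun he =>
      hr (he ▸ Ideal.mem_sup_right (Ideal.mem_span_singleton_self _))
    have hJ : IsNoetherian B (A ⧸ J) := by
      by_contra hJ
      exact hmax J hJ hlt
    let q : (A ⧸ I) →ₗ[B] (A ⧸ J) := (Ideal.Quotient.factorₐ B (le_sup_left : I ≤ J)).toLinearMap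
    have hq : LinearMap.ker q = LinearMap.range (LinearMap.lsmul B (A ⧸ I) r) := by
      ext z
      obtain ⟨a, rfl⟩ := Ideal.Quotient.mk_surjective z
      rw [LinearMap.mem_ker, LinearMap.mem_range]
      show Ideal.Quotient.mk J a = 0 ↔ _
      rw [Ideal.Quotient.eq_zero_iff_mem, Submodule.mem_sup]
      constructor
      · rintro ⟨i, hi, c, hc, rfl⟩
        obtain ⟨d, rfl⟩ := Ideal.mem_span_singleton'.mp hc
        refine ⟨Ideal.Quotient.mk I d, ?_⟩
        rw [LinearMap.lsmul_apply, map_add, Ideal.Quotient.eq_zero_iff_mem.mpr hi, zero_add, Algebra.smul_def,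
          ← Ideal.Quotient.mk_algebraMap, ← map_mul, mul_comm]
      · rintro ⟨y, hy⟩
        obtain ⟨d, rfl⟩ := Ideal.Quotient.mk_surjective y
        rw [LinearMap.lsmul_apply, Algebra.smul_def, ← Ideal.Quotient.mk_algebraMap, ← map_mul,
          Ideal.Quotient.eq] at hy
        refine ⟨_, I.neg_mem hy, algebraMap B A r * d, Ideal.mul_mem_right _ _ (Ideal.mem_span_singleton_self _), ?_⟩
        ring
    rw [← hq]
    exact isNoetherian_of_linearEquiv (LinearMap.quotKerEquivOfSurjective q
      (Ideal.Quotient.factor_surjective (le_sup_left : I ≤ J))).symm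

end Groth.Agent.EakinNag
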